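import Cfsg.Agent.JankoOne.Pack

/-!
Data for the matrix group `J₁`: normal closures of the elements of prime order.
-/

set_option autoImplicit false
set_option maxRecDepth 100000
set_option maxHeartbeats 4000000

namespace CfsgLib.JankoOne.Data

/-- A Sylow 2-subgroup with conjugators. -/
def sylTwo : List (ℕ × ℕ) := [
  (95297, 0),
  (94208, 449),
  (1089, 82754),
  (22948, 145692),
  (101896, 85139),
  (207268, 39575),
  (89608, 1498)]

/-- Certificates. -/
def closures : List (ℕ × ℕ × List (List (ℕ × ℕ))) := [
  (3, 142487, [[(156612, 176906), (378, 100489), (154580, 221799), (89395, 209696)], [(984, 135755), (45309, 137933), (48056, 80992), (259, 212320)]]),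
  (5, 64339, [[(61949, 148088), (125122, 121909), (229, 139677), (573, 93268)], [(37620, 195919), (31481, 87438), (156079, 123791), (1132, 2190)]]),
  (7, 2190, [[(2854, 211511), (382, 186552), (44010, 211020), (139294, 100421)], [(189615, 109899), (62568, 222463), (200718, 181205), (115262, 42)]]),
  (11, 217460, [[(1483, 171024), (3232, 148364), (577, 39586), (150887, 70726)], [(405, 191586), (118, 100800), (193447, 142200), (192811, 140330)]]),
  (19, 156, [[(915, 4402), (697, 61906), (71, 191769), (204, 161935)], [(92450, 98476), (757, 1002), (103337, 201337), (74261, 136236)]]),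
  (2, 95297, [[(182701, 50323), (70387, 69116), (155118, 48075), (118063, 187593)], [(4454, 41484), (221525, 72942), (192961, 200984), (56384, 70991)]])]

end CfsgLib.JankoOne.Data
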