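import Cfsg.Agent.JankoOne.Group
import Cfsg.Agent.JankoOne.DataClass
import Cfsg.Agent.JankoOne.DataSimple

/-!
Kernel checks about the class of involutions of `J₁` and normal closures.
-/

set_option autoImplicit false
set_option maxRecDepth 100000
set_option Elab.async false

namespace CfsgLib.JankoOne

/-- The matrix with index `n`. -/
def eM (n : ℕ) : M7 := mulM (kM (n / 2048)) (tM (n % 2048))

/-- A valid index. -/
def okI (n : ℕ) : Bool := Nat.blt (n / 2048) 110 && Nat.blt (n % 2048) 1596

/-- The involutions. -/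
def zM (j : ℕ) : M7 := at2 oneM Data.invs j

def invEdge (s : ℕ) : List (List ℕ) := bif Nat.beq s 0 then Data.invEdgeX else Data.invEdgeY

theorem invs_ok : ((List.range 1463).all fun j => okM (zM j)) = true := by decide +kernel

theorem invEdge_ok : ((List.range 2).all fun s => (List.range 1463).all fun j =>
    Nat.blt (at2 0 (invEdge s) j) 1463 &&
      beqM (mulM (zM j) (gen s)) (mulM (gen s) (zM (at2 0 (invEdge s) j)))) = true := by decide +kernel

theorem invPar_ok : ((List.range 1463).all fun j => Nat.beq j 0 ||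
    (let e := at2 0 Data.invPar j
     Nat.blt (e / 2) j && Nat.beq (at2 0 (invEdge (e % 2)) (e / 2)) j)) = true := by decide +kernel

theorem inv_zero : (okI Data.invIdx && beqM (eM Data.invIdx) (zM 0) && beqM (mulM (zM 0) (zM 0)) oneM &&
    !(beqM (zM 0) oneM)) = true := by decide +kernel

/-- A single number for a matrix. -/
def key (A : M7) : ℕ :=
  A.r0 + 2 ^ 84 * A.r1 + 2 ^ 168 * A.r2 + 2 ^ 252 * A.r3 + 2 ^ 336 * A.r4 + 2 ^ 420 * A.r5 + 2 ^ 504 * A.r6

theorem invSrt_ok : ((List.range 1463).all fun n =>
    Nat.blt (at2 0 Data.invRank n) 1463 && Nat.beq (at2 0 Data.invSrt (at2 0 Data.invRank n)) n &&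
      (Nat.beq n 1462 || Nat.blt (key (zM (at2 0 Data.invSrt n))) (key (zM (at2 0 Data.invSrt (n + 1)))))) =
    true := by decide +kernel

theorem sylTwo_ok : (Data.sylTwo.all fun e => okI e.1 && okI e.2 &&
    beqM (mulM (eM e.2) (eM e.1)) (mulM (zM 0) (eM e.2))) = true := by decide +kernel

/-- The list of the Sylow 2-subgroup with the identity. -/
def e8 : List ℕ := 0 :: Data.sylTwo.map Prod.fst

theorem e8_ok : (e8.all okI && beqM (eM 0) oneM && (e8.all fun a => e8.all fun b =>
    e8.any fun c => beqM (mulM (eM a) (eM b)) (eM c)) &&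
    ((List.range 8).all fun i => (List.range 8).all fun j =>
      Nat.beq i j || !(beqM (eM (e8.getD i 0)) (eM (e8.getD j 0))))) = true := by decide +kernel

theorem e8_length : e8.length = 8 := by decide +kernel

/-- The product of the conjugates. -/
def prodM (x : M7) : List (ℕ × ℕ) → M7
  | [] => oneM
  | (g, h) :: r => mulM (mulM (mulM (eM g) x) (eM h)) (prodM x r)

/-- Powers. -/
def powM (A : M7) : ℕ → M7
  | 0 => oneM
  | n + 1 => mulM (powM A n) A

theorem closures_ok : (Data.closures.all fun c => okI c.2.1 && beqM (powM (eM c.2.1) c.1) oneM &&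
    !(beqM (eM c.2.1) oneM) && (c.2.2.all fun l => l.all fun e => okI e.1 && okI e.2 && beqM (mulM (eM e.1) (eM e.2)) oneM) &&
    beqM (prodM (eM c.2.1) (c.2.2.getD 0 [])) gX && beqM (prodM (eM c.2.1) (c.2.2.getD 1 [])) gY &&
    Nat.beq c.2.2.length 2) = true := by decide +kernel

theorem closures_primes : Data.closures.map Prod.fst = [3, 5, 7, 11, 19, 2] := by decide +kernel

theorem closure_two : (Data.closures.all fun c => !(Nat.beq c.1 2) || Nat.beq c.2.1 Data.invIdx) = true := by
  decide +kernel

end CfsgLib.JankoOne
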