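import Cfsg.Agent.JankoOne.ClassChecks
import Cfsg.Prelude.Def_Sporadic

/-!
The class of involutions of `J₁` and simplicity.
-/

set_option autoImplicit false
set_option maxRecDepth 100000
set_option Elab.async false

namespace CfsgLib.JankoOne

open Cfsg.Spor

/-- The element with index `n`. -/
noncomputable def elI (n : ℕ) : J1 := el (Fin.ofNat 110 (n / 2048), Fin.ofNat 1596 (n % 2048))

/-- The matrix of an element. -/
def toMat (g : J1) : Matrix (Fin 7) (Fin 7) (ZMod 11) := ((g : GL7) : Matrix (Fin 7) (Fin 7) (ZMod 11))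

theorem toMat_mul (g h : J1) : toMat (g * h) = toMat g * toMat h := rfl

theorem toMat_one : toMat 1 = 1 := rfl

theorem toMat_inj {g h : J1} (e : toMat g = toMat h) : g = h := Subtype.ext (Units.ext e)

theorem toMat_gG (s : ℕ) : toMat (gG s) = mat (gen s) := gG_val s

theorem elI_spec {n : ℕ} (h : okI n = true) : okM (eM n) = true ∧ toMat (elI n) = mat (eM n) := by
  simp only [okI, Bool.and_eq_true, Nat.blt_eq] at h
  refine ⟨okM_mulM _ _, ?_⟩
  rw [toMat, elI, el_val, eM, mat_mulM (okM_kM h.1) (okM_tM h.2)]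
  congr 3 <;> exact Nat.mod_eq_of_lt (by omega)

theorem mul_eq_iff {a b c d : ℕ} (ha : okI a = true) (hb : okI b = true) (hc : okI c = true) (hd : okI d = true)
    (h : beqM (mulM (eM a) (eM b)) (mulM (eM c) (eM d)) = true) : elI a * elI b = elI c * elI d := by
  refine toMat_inj ?_
  rw [toMat_mul, toMat_mul, (elI_spec ha).2, (elI_spec hb).2, (elI_spec hc).2, (elI_spec hd).2,
    ← mat_mulM (elI_spec ha).1 (elI_spec hb).1, ← mat_mulM (elI_spec hc).1 (elI_spec hd).1, beqM_iff.1 h]

/-- Injectivity from a sorting certificate. -/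
theorem inj_of_sorted {N : ℕ} {f : ℕ → ℕ} {srt rank : List (List ℕ)}
    (h : ((List.range (N + 1)).all fun n => Nat.blt (at2 0 rank n) (N + 1) && Nat.beq (at2 0 srt (at2 0 rank n)) n &&
      (Nat.beq n N || Nat.blt (f (at2 0 srt n)) (f (at2 0 srt (n + 1))))) = true)
    {i j : ℕ} (hi : i < N + 1) (hj : j < N + 1) (he : f i = f j) : i = j := by
  have hs := fun n (hn : n < N + 1) => chk h hn
  simp only [Bool.and_eq_true, Bool.or_eq_true, Nat.blt_eq, Nat.beq_eq] at hs
  have hmono : StrictMonoOn (fun n => f (at2 0 srt n)) (Set.Iio (N + 1)) := by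
    refine strictMonoOn_of_lt_succ Set.ordConnected_Iio ?_
    intro n _ hn hn'
    rw [Nat.succ_eq_succ, Set.mem_Iio] at hn'
    exact (hs n (Set.mem_Iio.1 hn)).2.resolve_left (by omega)
  have := hmono.injOn (Set.mem_Iio.2 (hs i hi).1.1) (Set.mem_Iio.2 (hs j hj).1.1)
    (show f (at2 0 srt (at2 0 rank i)) = f (at2 0 srt (at2 0 rank j)) by rw [(hs i hi).1.2, (hs j hj).1.2, he])
  rw [← (hs i hi).1.2, this, (hs j hj).1.2]

theorem okM_zM {j : ℕ} (hj : j < 1463) : okM (zM j) = true := chk invs_ok hj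

/-- The chosen involution. -/
noncomputable def invol : J1 := elI Data.invIdx

theorem invol_spec : toMat invol = mat (zM 0) ∧ invol * invol = 1 ∧ invol ≠ 1 := by
  have h := inv_zero
  simp only [Bool.and_eq_true, beqM_iff, Bool.not_eq_true'] at h
  obtain ⟨⟨⟨h1, h2⟩, h3⟩, h4⟩ := h
  have hz : toMat invol = mat (zM 0) := by rw [invol, (elI_spec h1).2, h2]
  refine ⟨hz, toMat_inj ?_, fun e => ?_⟩
  · rw [toMat_mul, hz, ← mat_mulM (okM_zM (by norm_num)) (okM_zM (by norm_num)), h3, mat_oneM, toMat_one]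
  · rw [e, toMat_one, ← mat_oneM] at hz
    rw [← mat_inj okM_oneM (okM_zM (by norm_num)) hz, beqM_iff.2 rfl] at h4
    exact Bool.noConfusion h4

theorem orderOf_invol : orderOf invol = 2 :=
  orderOf_eq_prime (by rw [sq]; exact invol_spec.2.1) invol_spec.2.2

theorem conj_gen {x : J1} {j : ℕ} (hj : j < 1463) (hx : toMat x = mat (zM j)) {s : ℕ} (hs : s < 2) :
    at2 0 (invEdge s) j < 1463 ∧ toMat ((gG s)⁻¹ * x * gG s) = mat (zM (at2 0 (invEdge s) j)) := by
  have h := chk (chk invEdge_ok hs) hj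
  simp only [Bool.and_eq_true, Nat.blt_eq, beqM_iff] at h
  refine ⟨h.1, ?_⟩
  have he : toMat x * toMat (gG s) = toMat (gG s) * mat (zM (at2 0 (invEdge s) j)) := by
    rw [hx, toMat_gG, ← mat_mulM (okM_zM hj) (okM_gen s), ← mat_mulM (okM_gen s) (okM_zM h.1), h.2]
  rw [toMat_mul, toMat_mul, mul_assoc, he, ← mul_assoc, ← toMat_mul, inv_mul_cancel, toMat_one, one_mul]

theorem exists_index_conj (g : J1) : ∃ j, j < 1463 ∧ toMat (g⁻¹ * invol * g) = mat (zM j) := by
  have hfin : Submonoid.closure ({gG 0, gG 1} : Set J1) = ⊤ := by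
    have h0 : Subgroup.closure ({gG 0, gG 1} : Set J1) = ⊤ := by
      apply Subgroup.map_injective J1.subtype_injective
      rw [MonoidHom.map_closure, ← MonoidHom.range_eq_map, Subgroup.range_subtype, Set.image_pair]
      rfl
    rw [← Subgroup.closure_toSubmonoid_of_finite, h0]
    rfl
  have hg : g ∈ Submonoid.closure ({gG 0, gG 1} : Set J1) := hfin ▸ Submonoid.mem_top g
  induction hg using Submonoid.closure_induction_right with
  | one => exact ⟨0, by norm_num, by simpa using invol_spec.1⟩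
  | mul_right x hx y hy ih =>
    obtain ⟨j, hj, hjx⟩ := ih
    have key : ∀ s < 2, ∃ j, j < 1463 ∧ toMat ((x * gG s)⁻¹ * invol * (x * gG s)) = mat (zM j) := by
      intro s hs
      obtain ⟨h1, h2⟩ := conj_gen hj hjx hs
      refine ⟨_, h1, ?_⟩
      rw [← h2]
      congr 1
      group
    rcases hy with rfl | hy
    · exact key 0 (by norm_num)
    · rw [Set.mem_singleton_iff.1 hy]
      exact key 1 (by norm_num)

theorem exists_index_conj' (g : J1) : ∃ j, j < 1463 ∧ toMat (g * invol * g⁻¹) = mat (zM j) := by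
  obtain ⟨j, hj, h⟩ := exists_index_conj g⁻¹
  exact ⟨j, hj, by rwa [inv_inv] at h⟩

theorem exists_conj_index : ∀ j, j < 1463 → ∃ g : J1, toMat (g⁻¹ * invol * g) = mat (zM j) := by
  intro j
  induction j using Nat.strong_induction_on with
  | _ j ih =>
    intro hj
    rcases Nat.eq_zero_or_pos j with rfl | hpos
    · exact ⟨1, by simpa using invol_spec.1⟩
    · have h := chk invPar_ok hj
      simp only [Bool.or_eq_true, Bool.and_eq_true, Nat.beq_eq, Nat.blt_eq] at h
      obtain ⟨hlt, he⟩ := h.resolve_left (by omega)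
      obtain ⟨g, hg⟩ := ih _ hlt (hlt.trans hj)
      obtain ⟨-, h2⟩ := conj_gen (hlt.trans hj) hg (Nat.mod_lt (at2 0 Data.invPar j) (by norm_num : 2 > 0))
      rw [he] at h2
      refine ⟨g * gG (at2 0 Data.invPar j % 2), ?_⟩
      rw [← h2]
      congr 1
      group

theorem card_centralizer_invol : Nat.card (Subgroup.centralizer ({invol} : Set J1)) = 120 := by
  classical
  set C := Subgroup.centralizer ({invol} : Set J1)
  let f : J1 ⧸ C → Fin 1463 := Quotient.lift (fun g : J1 =>
      (⟨(exists_index_conj' g).choose, (exists_index_conj' g).choose_spec.1⟩ : Fin 1463)) (by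
    intro a b hab
    have hab' : a⁻¹ * b ∈ C := (QuotientGroup.leftRel_apply).1 hab
    have hc := Subgroup.mem_centralizer_singleton_iff.1 hab'
    have he : a * invol * a⁻¹ = b * invol * b⁻¹ := by
      have : b * invol * b⁻¹ = a * ((a⁻¹ * b) * invol) * b⁻¹ := by group
      rw [this, hc]
      group
    have h1 := (exists_index_conj' a).choose_spec
    have h2 := (exists_index_conj' b).choose_spec
    have h1' := (congrArg toMat he).symm.trans h1.2
    exact Fin.ext (inj_of_sorted (f := fun n => key (zM n)) invSrt_ok h1.1 h2.1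
      (by rw [mat_inj (okM_zM h1.1) (okM_zM h2.1) (h1'.symm.trans h2.2)])))
  have hf : Function.Bijective f := by
    constructor
    · intro x y
      induction x using QuotientGroup.induction_on with | H a => ?_
      induction y using QuotientGroup.induction_on with | H b => ?_
      intro h
      have h' := congrArg Fin.val h
      have h1 := (exists_index_conj' a).choose_spec
      have h2 := (exists_index_conj' b).choose_spec
      change (exists_index_conj' a).choose = (exists_index_conj' b).choose at h'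
      have he : a * invol * a⁻¹ = b * invol * b⁻¹ := toMat_inj (h1.2.trans ((congrArg (fun n => mat (zM n)) h').trans h2.2.symm))
      refine QuotientGroup.eq.2 (Subgroup.mem_centralizer_singleton_iff.2 ?_)
      calc a⁻¹ * b * invol = a⁻¹ * (b * invol * b⁻¹) * b := by group
        _ = a⁻¹ * (a * invol * a⁻¹) * b := by rw [he]
        _ = invol * (a⁻¹ * b) := by group
    · intro j
      obtain ⟨g, hg⟩ := exists_conj_index j j.2
      refine ⟨QuotientGroup.mk g⁻¹, Fin.ext ?_⟩
      have h1 := (exists_index_conj' g⁻¹).choose_spec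
      show (exists_index_conj' g⁻¹).choose = j
      refine inj_of_sorted (f := fun n => key (zM n)) invSrt_ok h1.1 j.2 ?_
      have hg' : toMat (g⁻¹ * invol * g⁻¹⁻¹) = mat (zM j) := by rwa [inv_inv]
      rw [mat_inj (okM_zM h1.1) (okM_zM j.2) (h1.2.symm.trans hg')]
  have hidx : C.index = 1463 := by
    rw [Subgroup.index, Nat.card_eq_of_bijective f hf, Nat.card_fin]
  have := C.card_mul_index
  rw [hidx, card_J1] at this
  omega

theorem prodM_mem {N : Subgroup J1} [N.Normal] {x : J1} {xm : M7} (hxm : okM xm = true)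
    (hx : toMat x = mat xm) (hN : x ∈ N) : ∀ l : List (ℕ × ℕ),
    (l.all fun e => okI e.1 && okI e.2 && beqM (mulM (eM e.1) (eM e.2)) oneM) = true →
    okM (prodM xm l) = true ∧ ∃ y ∈ N, toMat y = mat (prodM xm l)
  | [], _ => ⟨okM_oneM, 1, N.one_mem, by rw [toMat_one, prodM, mat_oneM]⟩
  | (g, h) :: r, hl => by
    rw [List.all_cons, Bool.and_eq_true] at hl
    obtain ⟨hl1, hr⟩ := hl
    rw [Bool.and_eq_true, Bool.and_eq_true, beqM_iff] at hl1
    obtain ⟨⟨hg, hh⟩, hgh⟩ := hl1
    obtain ⟨hok, y, hy, hym⟩ := prodM_mem hxm hx hN r hr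
    refine ⟨okM_mulM _ _, elI g * x * elI h * y, mul_mem ?_ hy, ?_⟩
    · have hinv : elI h = (elI g)⁻¹ := by
        rw [eq_inv_iff_mul_eq_one]
        have : elI g * elI h = 1 := toMat_inj (by
          rw [toMat_mul, (elI_spec hg).2, (elI_spec hh).2, ← mat_mulM (elI_spec hg).1 (elI_spec hh).1, hgh,
            mat_oneM, toMat_one])
        exact (mul_eq_one_comm).1 this
      rw [hinv]
      exact (inferInstance : N.Normal).conj_mem x hN _
    · rw [toMat_mul, toMat_mul, toMat_mul, (elI_spec hg).2, (elI_spec hh).2, hx, hym, prodM,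
        mat_mulM (okM_mulM _ _) hok, mat_mulM (okM_mulM _ _) (elI_spec hh).1,
        mat_mulM (elI_spec hg).1 hxm]

theorem okM_powM {A : M7} : ∀ n, okM (powM A n) = true
  | 0 => okM_oneM
  | _ + 1 => okM_mulM _ _

theorem mat_powM {A : M7} (hA : okM A = true) : ∀ n, mat (powM A n) = mat A ^ n
  | 0 => by rw [powM, mat_oneM, pow_zero]
  | n + 1 => by rw [powM, mat_mulM (okM_powM n) hA, mat_powM hA n, pow_succ]

theorem prime_mem {p : ℕ} (hp : p.Prime) (hd : p ∣ 175560) : p ∈ [3, 5, 7, 11, 19, 2] := by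
  rw [show (175560 : ℕ) = 2 ^ 3 * 3 * 5 * 7 * 11 * 19 by norm_num] at hd
  simp only [hp.dvd_mul] at hd
  rcases hd with ((((hd | hd) | hd) | hd) | hd) | hd
  · simp [(Nat.prime_dvd_prime_iff_eq hp Nat.prime_two).1 (hp.dvd_of_dvd_pow hd)]
  all_goals (rw [(Nat.prime_dvd_prime_iff_eq hp (by norm_num)).1 hd]; simp)

theorem eq_top_of_mem {N : Subgroup J1} [N.Normal] {c : ℕ × ℕ × List (List (ℕ × ℕ))} (hc : c ∈ Data.closures)
    (hx : elI c.2.1 ∈ N) : N = ⊤ := by
  have h := List.all_eq_true.1 closures_ok c hc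
  simp only [Bool.and_eq_true, Nat.beq_eq] at h
  obtain ⟨⟨⟨⟨⟨⟨hI, -⟩, -⟩, hl⟩, hX⟩, hY⟩, hlen⟩ := h
  have hget : ∀ i, i < 2 → (c.2.2.getD i []) ∈ c.2.2 := fun i hi => by
    rw [List.getD_eq_getElem _ _ (by omega)]; exact List.getElem_mem _
  obtain ⟨-, y0, hy0, e0⟩ := prodM_mem (elI_spec hI).1 (elI_spec hI).2 hx (c.2.2.getD 0 [])
    (List.all_eq_true.1 hl _ (hget 0 (by norm_num)))
  obtain ⟨-, y1, hy1, e1⟩ := prodM_mem (elI_spec hI).1 (elI_spec hI).2 hx (c.2.2.getD 1 [])
    (List.all_eq_true.1 hl _ (hget 1 (by norm_num)))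
  rw [beqM_iff.1 hX] at e0
  rw [beqM_iff.1 hY] at e1
  have h0 : y0 = gG 0 := toMat_inj (e0.trans (toMat_gG 0).symm)
  have h1 : y1 = gG 1 := toMat_inj (e1.trans (toMat_gG 1).symm)
  rw [eq_top_iff]
  intro g _
  have : (g : GL7) ∈ N.map J1.subtype := by
    refine (Subgroup.closure_le (N.map J1.subtype)).2 ?_ g.2
    rintro _ (rfl | rfl)
    · exact ⟨y0, hy0, by rw [h0]; rfl⟩
    · exact ⟨y1, hy1, by rw [h1]; rfl⟩
  obtain ⟨g', hg', he⟩ := this
  exact Subtype.ext he ▸ hg'

theorem orderOf_closure {c : ℕ × ℕ × List (List (ℕ × ℕ))} (hc : c ∈ Data.closures) (hp : c.1.Prime) :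
    orderOf (elI c.2.1) = c.1 := by
  have h := List.all_eq_true.1 closures_ok c hc
  simp only [Bool.and_eq_true, beqM_iff, Bool.not_eq_true'] at h
  obtain ⟨⟨⟨⟨⟨⟨hI, hpw⟩, hne⟩, -⟩, -⟩, -⟩, -⟩ := h
  haveI : Fact c.1.Prime := ⟨hp⟩
  refine orderOf_eq_prime ?_ fun e => ?_
  · refine Subtype.ext (Units.ext ?_)
    rw [SubgroupClass.coe_pow, Units.val_pow_eq_pow_val]
    show toMat (elI c.2.1) ^ c.1 = 1
    rw [(elI_spec hI).2, ← mat_powM (elI_spec hI).1, hpw, mat_oneM]
  · have h2 := (elI_spec hI).2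
    rw [e, toMat_one, ← mat_oneM] at h2
    rw [← mat_inj okM_oneM (elI_spec hI).1 h2, beqM_iff.2 rfl] at hne
    exact Bool.noConfusion hne

theorem exists_conj_invol {y : J1} (hy : orderOf y = 2) : ∃ g : J1, g * y * g⁻¹ = invol := by
  classical
  haveI : Fact (Nat.Prime 2) := ⟨Nat.prime_two⟩
  have h := e8_ok
  simp only [Bool.and_eq_true, List.all_eq_true, beqM_iff, List.any_eq_true] at h
  obtain ⟨⟨⟨hok, hone⟩, hmul⟩, hdist⟩ := h
  let S : Set J1 := {x | ∃ e ∈ e8, x = elI e}
  have h0 : elI 0 = 1 := toMat_inj (by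
    rw [(elI_spec (hok 0 (List.mem_cons_self ..))).2, hone, mat_oneM, toMat_one])
  have hSmul : ∀ x ∈ S, ∀ z ∈ S, x * z ∈ S := by
    rintro _ ⟨a, ha, rfl⟩ _ ⟨b, hb, rfl⟩
    obtain ⟨c, hc, he⟩ := hmul a ha b hb
    refine ⟨c, hc, toMat_inj ?_⟩
    rw [toMat_mul, (elI_spec (hok a ha)).2, (elI_spec (hok b hb)).2, ← mat_mulM (elI_spec (hok a ha)).1
      (elI_spec (hok b hb)).1, he, (elI_spec (hok c hc)).2]
  let E : Subgroup J1 :=
    { carrier := S
      one_mem' := ⟨0, List.mem_cons_self .., h0.symm⟩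
      mul_mem' := fun {x z} hx hz => hSmul x hx z hz
      inv_mem' := fun {x} hx => by
        rw [← mem_powers_iff_mem_zpowers.2 (inv_mem (Subgroup.mem_zpowers x)) |>.choose_spec]
        generalize (mem_powers_iff_mem_zpowers.2 (inv_mem (Subgroup.mem_zpowers x))).choose = n
        show x ^ n ∈ S
        induction n with
        | zero => rw [pow_zero]; exact ⟨0, List.mem_cons_self .., h0.symm⟩
        | succ k ih => rw [pow_succ]; exact hSmul _ ih _ hx }
  have hcard : Nat.card E = 8 := by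
    let f : Fin 8 → E := fun i => ⟨elI (e8.getD i 0), e8.getD i 0, by
      rw [List.getD_eq_getElem _ _ (by rw [e8_length]; exact i.2)]; exact List.getElem_mem _, rfl⟩
    have hf : Function.Bijective f := by
      constructor
      · intro i j hij
        by_contra hne
        have h1 := hdist i.val (List.mem_range.2 i.2) j.val (List.mem_range.2 j.2)
        simp only [Bool.or_eq_true, Nat.beq_eq, Bool.not_eq_true'] at h1
        rcases h1 with h1 | h1
        · exact hne (Fin.ext h1)
        · have oi : okI (e8.getD i 0) = true := hok _ (by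
            rw [List.getD_eq_getElem _ _ (by rw [e8_length]; exact i.2)]; exact List.getElem_mem _)
          have oj : okI (e8.getD j 0) = true := hok _ (by
            rw [List.getD_eq_getElem _ _ (by rw [e8_length]; exact j.2)]; exact List.getElem_mem _)
          have he := congrArg (fun u : E => toMat (u : J1)) hij
          simp only [f, (elI_spec oi).2, (elI_spec oj).2] at he
          rw [mat_inj (elI_spec oi).1 (elI_spec oj).1 he, beqM_iff.2 rfl] at h1
          exact Bool.noConfusion h1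
      · rintro ⟨_, e, he, rfl⟩
        obtain ⟨i, hi, rfl⟩ := List.getElem_of_mem he
        refine ⟨⟨i, e8_length ▸ hi⟩, Subtype.ext ?_⟩
        show elI (e8.getD i 0) = _
        rw [List.getD_eq_getElem _ _ hi]
    rw [← Nat.card_eq_of_bijective f hf, Nat.card_fin]
  let Q : Sylow 2 J1 := Sylow.ofCard E (by
    rw [hcard, card_J1, show (175560 : ℕ) = 2 ^ 3 * 21945 by norm_num,
      Nat.factorization_mul (by norm_num) (by norm_num), Finsupp.add_apply, Nat.prime_two.factorization_pow,
      Nat.factorization_eq_zero_of_not_dvd (by norm_num), Finsupp.single_eq_same]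
    norm_num)
  obtain ⟨R, hR⟩ := (IsPGroup.of_card (p := 2) (n := 1) (G := Subgroup.zpowers y)
    (by rw [Nat.card_zpowers, hy, pow_one])).exists_le_sylow
  obtain ⟨g, hg⟩ := MulAction.exists_smul_eq J1 R Q
  have hmem : g * y * g⁻¹ ∈ (Q : Subgroup J1) := by
    rw [← hg, Sylow.smul_def, Sylow.pointwise_smul_def]
    exact ⟨y, hR (Subgroup.mem_zpowers y), rfl⟩
  obtain ⟨e, he, hee⟩ := (hmem : g * y * g⁻¹ ∈ S)
  rcases List.mem_cons.1 he with rfl | he'
  · rw [h0, conj_eq_one_iff] at hee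
    rw [hee, orderOf_one] at hy
    norm_num at hy
  · obtain ⟨e', he'', rfl⟩ := List.mem_map.1 he'
    have h2 := List.all_eq_true.1 sylTwo_ok e' he''
    simp only [Bool.and_eq_true, beqM_iff] at h2
    obtain ⟨⟨o1, o2⟩, h3⟩ := h2
    refine ⟨elI e'.2 * g, ?_⟩
    have h4 : elI e'.2 * elI e'.1 = invol * elI e'.2 := toMat_inj (by
      rw [toMat_mul, toMat_mul, (elI_spec o2).2, (elI_spec o1).2, invol_spec.1,
        ← mat_mulM (elI_spec o2).1 (elI_spec o1).1, h3, mat_mulM (okM_zM (by norm_num)) (elI_spec o2).1])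
    calc elI e'.2 * g * y * (elI e'.2 * g)⁻¹ = elI e'.2 * (g * y * g⁻¹) * (elI e'.2)⁻¹ := by group
      _ = invol := by rw [hee, h4, mul_inv_cancel_right]

theorem nontrivial_J1 : Nontrivial J1 := Finite.one_lt_card_iff_nontrivial.1 (by rw [card_J1]; norm_num)

theorem isSimple_J1 : IsSimpleGroup J1 := by
  haveI := nontrivial_J1
  refine ⟨fun N hN => or_iff_not_imp_left.2 fun hne => ?_⟩
  haveI := hN
  have h1 : Nat.card N ≠ 1 := fun e => hne (Subgroup.card_eq_one.1 e)
  obtain ⟨p, hp, hpd⟩ := Nat.exists_prime_and_dvd h1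
  haveI : Fact p.Prime := ⟨hp⟩
  have hpJ : p ∣ 175560 := card_J1 ▸ hpd.trans (Subgroup.card_subgroup_dvd_card N)
  obtain ⟨y, hy⟩ := exists_prime_orderOf_dvd_card' (G := N) p hpd
  have hyo : orderOf (y : J1) = p := by rw [Subgroup.orderOf_coe]; exact hy
  obtain ⟨c, hc, hcp⟩ := List.mem_map.1 (closures_primes ▸ prime_mem hp hpJ)
  refine eq_top_of_mem hc ?_
  by_cases h2 : p = 2
  · subst h2
    have h3 := List.all_eq_true.1 closure_two c hc
    simp only [hcp, Bool.or_eq_true, Bool.not_eq_true', Nat.beq_eq] at h3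
    rcases h3 with h3 | h3
    · simp at h3
    · obtain ⟨g, hg⟩ := exists_conj_invol hyo
      rw [h3]
      show invol ∈ N
      rw [← hg]
      exact hN.conj_mem _ y.2 g
  · have hxo := orderOf_closure hc (hcp ▸ hp)
    rw [hcp] at hxo
    have hf : (Nat.card J1).factorization p = 1 := by
      rw [card_J1]
      have hsq : ¬ p ^ 2 ∣ 175560 := by
        have := prime_mem hp hpJ
        simp only [List.mem_cons, List.not_mem_nil, or_false] at this
        rcases this with rfl | rfl | rfl | rfl | rfl | rfl <;> first | exact absurd rfl h2 | norm_num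
      have ha := (hp.dvd_iff_one_le_factorization (by norm_num)).1 hpJ
      by_contra hne1
      exact hsq ((pow_dvd_pow p (show 2 ≤ (175560 : ℕ).factorization p by omega)).trans (Nat.ordProj_dvd _ _))
    let P : Sylow p J1 := Sylow.ofCard (Subgroup.zpowers (y : J1)) (by rw [Nat.card_zpowers, hyo, hf, pow_one])
    let Q : Sylow p J1 := Sylow.ofCard (Subgroup.zpowers (elI c.2.1)) (by rw [Nat.card_zpowers, hxo, hf, pow_one])
    obtain ⟨g, hg⟩ := MulAction.exists_smul_eq J1 P Q
    have hmem : elI c.2.1 ∈ (Q : Subgroup J1) := Subgroup.mem_zpowers _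
    rw [← hg, Sylow.smul_def, Sylow.pointwise_smul_def] at hmem
    obtain ⟨w, hw, hwe⟩ := hmem
    rw [← hwe]
    exact hN.conj_mem w ((Subgroup.zpowers_le.2 y.2) hw) g

theorem isJ1 : Cfsg.IsJ1 J1 := ⟨isSimple_J1, card_J1⟩

end CfsgLib.JankoOne
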