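import Cfsg.Agent.JankoOne.DataCosets
import Cfsg.Agent.JankoOne.DataStab
import Cfsg.Prelude.Def_Spor_J1
import Cfsg.Prelude.Def_SporadicB

/-!
The order of `J₁`: right cosets of the stabiliser of a line.
-/

set_option autoImplicit false
set_option maxRecDepth 100000
set_option Elab.async false

namespace CfsgLib.JankoOne

open Cfsg.Spor

instance fact_prime_eleven : Fact (Nat.Prime 11) := ⟨by norm_num⟩

abbrev GL7 : Type := GL (Fin 7) (ZMod 11)

/-- Entry of a chunked list. -/
def at2 {α : Type} (d : α) (L : List (List α)) (i : ℕ) : α := (L.getD (i / 40) []).getD (i % 40) d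

/-- Coset representatives. -/
def tM (i : ℕ) : M7 := at2 oneM Data.reps i
/-- Stabiliser elements. -/
def kM (k : ℕ) : M7 := at2 oneM Data.stab k

/-- The generators. -/
def gX : M7 := ⟨4096, 16777216, 68719476736, 281474976710656, 1152921504606846976, 4722366482869645213696, 1⟩
def gY : M7 := ⟨enc 8 2 10 10 8 10 8, enc 9 1 1 3 1 3 3, enc 10 10 8 10 8 8 2, enc 10 8 10 8 8 2 10,
  enc 8 10 8 8 2 10 10, enc 1 3 3 9 1 1 3, enc 3 3 9 1 1 3 1⟩
def gen (s : ℕ) : M7 := bif Nat.beq s 0 then gX else gY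
def genEdge (s : ℕ) : List (List ℕ) := bif Nat.beq s 0 then Data.edgeX else Data.edgeY

theorem okM_gen : ∀ s, okM (gen s) = true
  | 0 => by decide +kernel
  | _ + 1 => (by decide +kernel : okM gY = true)

theorem mat_gX : mat gX = Cfsg.jankoMatrixX := by decide +kernel
theorem mat_gY : mat gY = Cfsg.jankoMatrixY := by decide +kernel

theorem reps_ok : ((List.range 1596).all fun i => okM (tM i)) = true := by decide +kernel
theorem stab_ok : ((List.range 110).all fun k => okM (kM k)) = true := by decide +kernel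

theorem edge_ok : ((List.range 2).all fun s => (List.range 1596).all fun i =>
    let e := at2 0 (genEdge s) i
    Nat.blt (e % 2048) 1596 && Nat.blt (e / 2048) 110 &&
      beqM (mulM (tM i) (gen s)) (mulM (kM (e / 2048)) (tM (e % 2048)))) = true := by decide +kernel

theorem parent_ok : ((List.range 1596).all fun i => Nat.beq i 0 ||
    (let e := at2 0 Data.parent i
     Nat.blt (e / 2) i && beqM (tM i) (mulM (tM (e / 2)) (gen (e % 2))))) = true := by decide +kernel

theorem rep_zero : beqM (tM 0) oneM = true := by decide +kernel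
theorem stab_zero : beqM (kM 0) oneM = true := by decide +kernel

/-- Product index in the stabiliser. -/
def kk (a b : ℕ) : ℕ := at2 0 (Data.stabMul.getD a []) b

theorem stabMul_ok : ((List.range 110).all fun a => (List.range 110).all fun b =>
    Nat.blt (kk a b) 110 && beqM (mulM (kM a) (kM b)) (kM (kk a b))) = true := by decide +kernel

/-- The stabiliser element of a Schreier edge. -/
def schK (n : ℕ) : ℕ :=
  let e := Data.schreier.getD n 0
  at2 0 (genEdge (e % 2)) (e / 2) / 2048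

theorem schreier_ok : ((List.range 2).all fun n => Nat.blt (Data.schreier.getD n 0 / 2) 1596) = true := by
  decide +kernel

theorem stabPar_ok : ((List.range 110).all fun k => Nat.beq k 0 ||
    (let e := at2 0 Data.stabPar k
     Nat.blt (e / 2) k && beqM (kM k) (mulM (kM (e / 2)) (kM (schK (e % 2)))))) = true := by decide +kernel

theorem lines_ok : ((List.range 1596).all fun i =>
    let u := at2 0 Data.lines i
    let c := at2 0 Data.scal i
    okR u && Nat.blt 0 c && Nat.blt c 11 && Nat.beq (rowMul Data.v0 (tM i)) (smulR c u)) = true := by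
  decide +kernel

theorem lead_ok : ((List.range 1596).all fun i =>
    let u := at2 0 Data.lines i
    let p := at2 0 Data.lead i
    let l := [f0 u, f1 u, f2 u, f3 u, f4 u, f5 u, f6 u]
    Nat.blt p 7 && Nat.beq (l.getD p 0) 1 && (List.range p).all fun j => Nat.beq (l.getD j 0) 0) = true := by
  decide +kernel

theorem lam_ok : (okR Data.v0 && (List.range 110).all fun k =>
    let c := at2 0 Data.lam k
    Nat.blt 0 c && Nat.blt c 11 && Nat.beq (rowMul Data.v0 (kM k)) (smulR c Data.v0)) = true := by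
  decide +kernel

theorem srt_ok : ((List.range 1596).all fun n =>
    Nat.blt (at2 0 Data.rank n) 1596 && Nat.beq (at2 0 Data.srt (at2 0 Data.rank n)) n &&
      (Nat.beq n 1595 || Nat.blt (at2 0 Data.lines (at2 0 Data.srt n)) (at2 0 Data.lines (at2 0 Data.srt (n + 1))))) =
    true := by decide +kernel

theorem stab_distinct : ((List.range 110).all fun a => (List.range 110).all fun b =>
    Nat.beq a b || !(beqM (kM a) (kM b))) = true := by decide +kernel

theorem chk {n : ℕ} {f : ℕ → Bool} (h : (List.range n).all f = true) {i : ℕ} (hi : i < n) : f i = true :=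
  List.all_eq_true.1 h i (List.mem_range.2 hi)

theorem okM_tM {i : ℕ} (hi : i < 1596) : okM (tM i) = true := chk reps_ok hi
theorem okM_kM {k : ℕ} (hk : k < 110) : okM (kM k) = true := chk stab_ok hk

theorem edge_spec {s i : ℕ} (hs : s < 2) (hi : i < 1596) : at2 0 (genEdge s) i % 2048 < 1596 ∧
    at2 0 (genEdge s) i / 2048 < 110 ∧
    mat (tM i) * mat (gen s) = mat (kM (at2 0 (genEdge s) i / 2048)) * mat (tM (at2 0 (genEdge s) i % 2048)) := by
  have h := chk (chk edge_ok hs) hi
  simp only [Bool.and_eq_true, Nat.blt_eq, beqM_iff] at h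
  refine ⟨h.1.1, h.1.2, ?_⟩
  rw [← mat_mulM (okM_tM hi) (okM_gen s), h.2, mat_mulM (okM_kM h.1.2) (okM_tM h.1.1)]

theorem kk_spec {a b : ℕ} (ha : a < 110) (hb : b < 110) :
    kk a b < 110 ∧ mat (kM a) * mat (kM b) = mat (kM (kk a b)) := by
  have h := chk (chk stabMul_ok ha) hb
  simp only [Bool.and_eq_true, Nat.blt_eq, beqM_iff] at h
  exact ⟨h.1, by rw [← mat_mulM (okM_kM ha) (okM_kM hb), h.2]⟩

/-- The generators in `J₁`. -/
def gG (s : ℕ) : J1 :=
  bif Nat.beq s 0 then ⟨jankoX, Subgroup.subset_closure (Or.inl rfl)⟩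
  else ⟨jankoY, Subgroup.subset_closure (Or.inr rfl)⟩

theorem gG_val : ∀ s, ((gG s : GL7) : Matrix (Fin 7) (Fin 7) (ZMod 11)) = mat (gen s)
  | 0 => mat_gX.symm
  | _ + 1 => mat_gY.symm

theorem exists_rep : ∀ i, i < 1596 → ∃ g : J1, ((g : GL7) : Matrix (Fin 7) (Fin 7) (ZMod 11)) = mat (tM i) := by
  intro i
  induction i using Nat.strong_induction_on with
  | _ i ih =>
    intro hi
    rcases Nat.eq_zero_or_pos i with rfl | hpos
    · exact ⟨1, by rw [beqM_iff.1 rep_zero, mat_oneM]; rfl⟩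
    · have h := chk parent_ok hi
      simp only [Bool.or_eq_true, Bool.and_eq_true, Nat.beq_eq, Nat.blt_eq, beqM_iff] at h
      obtain ⟨hlt, he⟩ := h.resolve_left (by omega)
      obtain ⟨g, hg⟩ := ih _ hlt (hlt.trans hi)
      refine ⟨g * gG (at2 0 Data.parent i % 2), ?_⟩
      rw [he, mat_mulM (okM_tM (hlt.trans hi)) (okM_gen _), ← hg, ← gG_val]
      rfl

theorem exists_schK {n : ℕ} (hn : n < 2) :
    schK n < 110 ∧ ∃ g : J1, ((g : GL7) : Matrix (Fin 7) (Fin 7) (ZMod 11)) = mat (kM (schK n)) := by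
  have hi : Data.schreier.getD n 0 / 2 < 1596 := by simpa using chk schreier_ok hn
  obtain ⟨h1, h2, h3⟩ := edge_spec (s := Data.schreier.getD n 0 % 2) (Nat.mod_lt _ (by norm_num)) hi
  obtain ⟨t, ht⟩ := exists_rep _ hi
  obtain ⟨u, hu⟩ := exists_rep _ h1
  refine ⟨h2, t * gG (Data.schreier.getD n 0 % 2) * u⁻¹, ?_⟩
  show ((t : GL7) : Matrix (Fin 7) (Fin 7) (ZMod 11)) * ((gG (Data.schreier.getD n 0 % 2) : GL7) : Matrix _ _ _) *
    (((u : GL7)⁻¹ : GL7) : Matrix _ _ _) = _
  rw [ht, gG_val, h3, ← hu, mul_assoc, Units.mul_inv, mul_one]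
  rfl

theorem exists_stab : ∀ k, k < 110 → ∃ g : J1, ((g : GL7) : Matrix (Fin 7) (Fin 7) (ZMod 11)) = mat (kM k) := by
  intro k
  induction k using Nat.strong_induction_on with
  | _ k ih =>
    intro hk
    rcases Nat.eq_zero_or_pos k with rfl | hpos
    · exact ⟨1, by rw [beqM_iff.1 stab_zero, mat_oneM]; rfl⟩
    · have h := chk stabPar_ok hk
      simp only [Bool.or_eq_true, Bool.and_eq_true, Nat.beq_eq, Nat.blt_eq, beqM_iff] at h
      obtain ⟨hlt, he⟩ := h.resolve_left (by omega)
      obtain ⟨g, hg⟩ := ih _ hlt (hlt.trans hk)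
      obtain ⟨hs, g', hg'⟩ := exists_schK (Nat.mod_lt (at2 0 Data.stabPar k) (by norm_num : 2 > 0))
      refine ⟨g * g', ?_⟩
      rw [he, mat_mulM (okM_kM (hlt.trans hk)) (okM_kM hs), ← hg, ← hg']
      rfl

/-- The element `K_k T_i`. -/
noncomputable def el (c : Fin 110 × Fin 1596) : J1 :=
  (exists_stab c.1 c.1.2).choose * (exists_rep c.2 c.2.2).choose

theorem el_val (c : Fin 110 × Fin 1596) :
    ((el c : GL7) : Matrix (Fin 7) (Fin 7) (ZMod 11)) = mat (kM c.1) * mat (tM c.2) := by
  rw [← (exists_stab c.1 c.1.2).choose_spec, ← (exists_rep c.2 c.2.2).choose_spec]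
  rfl

theorem el_mul_gen (c : Fin 110 × Fin 1596) {s : ℕ} (hs : s < 2) : ∃ d, el c * gG s = el d := by
  obtain ⟨h1, h2, h3⟩ := edge_spec hs c.2.2
  obtain ⟨h4, h5⟩ := kk_spec c.1.2 h2
  refine ⟨(⟨_, h4⟩, ⟨_, h1⟩), Subtype.ext (Units.ext ?_)⟩
  show ((el c : GL7) : Matrix (Fin 7) (Fin 7) (ZMod 11)) * ((gG s : GL7) : Matrix _ _ _) = _
  rw [el_val, el_val, gG_val, mul_assoc, h3, ← mul_assoc, h5]

theorem el_zero : el (0, 0) = 1 := by
  refine Subtype.ext (Units.ext ?_)
  rw [el_val]
  show mat (kM 0) * mat (tM 0) = 1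
  rw [beqM_iff.1 rep_zero, beqM_iff.1 stab_zero, mat_oneM, mul_one]

theorem el_surjective : Function.Surjective el := by
  intro g
  have hfin : Submonoid.closure ({gG 0, gG 1} : Set J1) = ⊤ := by
    have h0 : Subgroup.closure ({gG 0, gG 1} : Set J1) = ⊤ := by
      apply Subgroup.map_injective J1.subtype_injective
      rw [MonoidHom.map_closure, ← MonoidHom.range_eq_map, Subgroup.range_subtype, Set.image_pair]
      rfl
    rw [← Subgroup.closure_toSubmonoid_of_finite, h0]
    rfl
  have hg : g ∈ Submonoid.closure ({gG 0, gG 1} : Set J1) := hfin ▸ Submonoid.mem_top g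
  induction hg using Submonoid.closure_induction_right with
  | one => exact ⟨_, el_zero⟩
  | mul_right x hx y hy ih =>
    obtain ⟨c, rfl⟩ := ih
    rcases hy with rfl | hy
    · obtain ⟨d, hd⟩ := el_mul_gen c (s := 0) (by norm_num)
      exact ⟨d, hd.symm⟩
    · rw [Set.mem_singleton_iff.1 hy]
      obtain ⟨d, hd⟩ := el_mul_gen c (s := 1) (by norm_num)
      exact ⟨d, hd.symm⟩

theorem lines_inj {i j : ℕ} (hi : i < 1596) (hj : j < 1596) (h : at2 0 Data.lines i = at2 0 Data.lines j) :
    i = j := by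
  have hs := fun n (hn : n < 1596) => chk srt_ok hn
  simp only [Bool.and_eq_true, Bool.or_eq_true, Nat.blt_eq, Nat.beq_eq] at hs
  have hmono : StrictMonoOn (fun n => at2 0 Data.lines (at2 0 Data.srt n)) (Set.Iio 1596) := by
    refine strictMonoOn_of_lt_succ Set.ordConnected_Iio ?_
    intro n _ hn hn'
    rw [Nat.succ_eq_succ, Set.mem_Iio] at hn'
    exact (hs n (Set.mem_Iio.1 hn)).2.resolve_left (by omega)
  have := hmono.injOn (Set.mem_Iio.2 (hs i hi).1.1) (Set.mem_Iio.2 (hs j hj).1.1)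
    (show at2 0 Data.lines (at2 0 Data.srt (at2 0 Data.rank i)) = _ by
      rw [(hs i hi).1.2]; show _ = at2 0 Data.lines (at2 0 Data.srt (at2 0 Data.rank j)); rw [(hs j hj).1.2, h])
  rw [← (hs i hi).1.2, this, (hs j hj).1.2]

/-- The normalised image of the line. -/
theorem line_image (c : Fin 110 × Fin 1596) : ∃ a : ZMod 11, a ≠ 0 ∧
    Matrix.vecMul (vec Data.v0) ((el c : GL7) : Matrix (Fin 7) (Fin 7) (ZMod 11)) =
      a • vec (at2 0 Data.lines c.2) := by
  have h0 := lam_ok
  simp only [Bool.and_eq_true] at h0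
  obtain ⟨hv, hl⟩ := h0
  have h1 := chk hl c.1.2
  have h2 := chk lines_ok c.2.2
  simp only [Bool.and_eq_true, Nat.blt_eq, Nat.beq_eq] at h1 h2
  obtain ⟨⟨l0, l11⟩, hk⟩ := h1
  obtain ⟨⟨⟨hu, c0⟩, c11⟩, ht⟩ := h2
  have hne : ∀ n : ℕ, 0 < n → n < 11 → (n : ZMod 11) ≠ 0 := fun n h1 h2 h => by
    rw [CharP.cast_eq_zero_iff (ZMod 11) 11] at h
    exact absurd (Nat.le_of_dvd h1 h) (by omega)
  refine ⟨((at2 0 Data.lam c.1 : ℕ) : ZMod 11) * ((at2 0 Data.scal c.2 : ℕ) : ZMod 11), ?_, ?_⟩
  · exact mul_ne_zero (hne _ l0 l11) (hne _ c0 c11)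
  · rw [el_val, ← Matrix.vecMul_vecMul, ← vec_rowMul hv (okM_kM c.1.2), hk, vec_smulR l11 hv,
      Matrix.smul_vecMul, ← vec_rowMul hv (okM_tM c.2.2), ht, vec_smulR c11 hu, smul_smul]

theorem el_injective : Function.Injective el := by
  intro c d h
  obtain ⟨a, ha, hca⟩ := line_image c
  obtain ⟨b, hb, hdb⟩ := line_image d
  rw [h, hdb] at hca
  have key : ∀ i, i < 1596 → ∃ p : Fin 7, (p : ℕ) = at2 0 Data.lead i ∧ vec (at2 0 Data.lines i) p = 1 ∧
      ∀ j : Fin 7, j < p → vec (at2 0 Data.lines i) j = 0 := by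
    intro i hi
    have h := chk lead_ok hi
    simp only [Bool.and_eq_true, Nat.blt_eq, Nat.beq_eq, List.all_eq_true, List.mem_range] at h
    obtain ⟨⟨hp, h1⟩, h0⟩ := h
    have hv : ∀ j : Fin 7, vec (at2 0 Data.lines i) j = ((([f0 (at2 0 Data.lines i), f1 (at2 0 Data.lines i),
        f2 (at2 0 Data.lines i), f3 (at2 0 Data.lines i), f4 (at2 0 Data.lines i), f5 (at2 0 Data.lines i),
        f6 (at2 0 Data.lines i)]).getD (j : ℕ) 0 : ℕ) : ZMod 11) := by
      intro j; fin_cases j <;> rfl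
    refine ⟨⟨_, hp⟩, rfl, ?_, ?_⟩
    · rw [hv, h1, Nat.cast_one]
    · intro j hj
      rw [hv, h0 j hj, Nat.cast_zero]
  obtain ⟨p, -, hp1, hp0⟩ := key c.2 c.2.2
  obtain ⟨q, -, hq1, hq0⟩ := key d.2 d.2.2
  have hpq : p = q := by
    rcases lt_trichotomy p q with hlt | he | hlt
    · have := congrFun hca p
      simp [hq0 p hlt, hp1] at this
      first | exact absurd this ha | exact absurd this.symm ha
    · exact he
    · have := congrFun hca q
      simp [hp0 q hlt, hq1] at this
      first | exact absurd this hb | exact absurd this.symm hb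
  have hab : b = a := by
    have := congrFun hca p
    simp only [Pi.smul_apply, smul_eq_mul, hp1] at this
    rw [hpq, hq1] at this
    simpa using this
  rw [hab] at hca
  have hu1 : okR (at2 0 Data.lines c.2) = true ∧ okR (at2 0 Data.lines d.2) = true := by
    constructor
    · have := chk lines_ok c.2.2; simp only [Bool.and_eq_true] at this; exact this.1.1.1
    · have := chk lines_ok d.2.2; simp only [Bool.and_eq_true] at this; exact this.1.1.1
  have hij : (c.2 : ℕ) = d.2 := lines_inj c.2.2 d.2.2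
    (vec_inj hu1.1 hu1.2 (smul_right_injective _ ha hca.symm))
  have hk : mat (kM c.1) = mat (kM d.1) := by
    have h' := congrArg (fun g : J1 => ((g : GL7) : Matrix (Fin 7) (Fin 7) (ZMod 11))) h
    simp only [el_val, hij] at h'
    obtain ⟨t, ht⟩ := exists_rep d.2 d.2.2
    rw [← ht] at h'
    exact (Units.mul_left_inj (t : GL7)).1 h'
  have hkk : (c.1 : ℕ) = d.1 := by
    have h := chk (chk stab_distinct c.1.2) d.1.2
    rw [mat_inj (okM_kM c.1.2) (okM_kM d.1.2) hk] at h
    simpa [beqM_iff.2 rfl] using h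
  exact Prod.ext (Fin.ext hkk) (Fin.ext hij)

/-- The order of `J₁`. -/
theorem card_J1 : Nat.card J1 = 175560 := by
  rw [← Nat.card_eq_of_bijective el ⟨el_injective, el_surjective⟩, Nat.card_prod, Nat.card_fin, Nat.card_fin]

end CfsgLib.JankoOne
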