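import Cfsg.Agent.JankoOne.Classes
import Cfsg.Agent.JankoOne.DataOut
import Cfsg.Prelude.Def_KGroupFacts

/-!
Automorphisms of `J₁` are inner.
-/

set_option autoImplicit false
set_option maxRecDepth 100000
set_option Elab.async false

namespace CfsgLib.JankoOne

open Cfsg.Spor

/-- The element of order three. -/
def bM : M7 := eM Data.three

/-- A letter. -/
def letter (zm : M7) (t : Bool) : M7 := bif t then bM else zm

/-- Evaluation of a word from a matrix. -/
def evFrom (zm : M7) : M7 → List Bool → M7
  | A, [] => A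
  | A, t :: w => evFrom zm (mulM A (letter zm t)) w

/-- Evaluation of a word on a row. -/
def evRow (zm : M7) : ℕ → List Bool → ℕ
  | r, [] => r
  | r, t :: w => evRow zm (rowMul r (letter zm t)) w

/-- A row of the identity. -/
def unitRow (q : ℕ) : ℕ := [oneM.r0, oneM.r1, oneM.r2, oneM.r3, oneM.r4, oneM.r5, oneM.r6].getD q 0

/-- The check of a candidate image. -/
def candOk (j : ℕ) : Bool :=
  let v := at2 0 Data.verdicts j
  (Nat.beq (v / 65536) 0 && Nat.blt (v % 65536 / 8) Data.centThree.length &&
      beqM (mulM (zM j) (eM (Data.centThree.getD (v % 65536 / 8) 0)))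
        (mulM (eM (Data.centThree.getD (v % 65536 / 8) 0)) (zM 0))) ||
    (Nat.beq (v / 65536) 1 && Nat.blt (v % 65536 / 8) Data.posRels.length && okR (unitRow (v % 8)) &&
      !(Nat.beq (evRow (zM j) (unitRow (v % 8)) (Data.posRels.getD (v % 65536 / 8) [])) (unitRow (v % 8)))) ||
    (Nat.beq (v / 65536) 2 && Nat.blt (v % 65536 / 8) Data.negRels.length &&
      beqM (evFrom (zM j) oneM (Data.negRels.getD (v % 65536 / 8) [])) oneM)

theorem cand_ok : ((List.range 1463).all candOk) = true := by decide +kernel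

theorem three_ok : (okI Data.three && beqM (mulM (mulM bM bM) bM) oneM && !(beqM bM oneM) &&
    okI Data.inverting && beqM (mulM (eM Data.inverting) bM) (mulM (mulM bM bM) (eM Data.inverting))) = true := by
  decide +kernel

theorem centThree_ok : (Data.centThree.all fun c => okI c && beqM (mulM (eM c) bM) (mulM bM (eM c))) = true := by
  decide +kernel

theorem rels_ok : ((Data.posRels.all fun w => beqM (evFrom (zM 0) oneM w) oneM) &&
    (Data.negRels.all fun w => !(beqM (evFrom (zM 0) oneM w) oneM)) &&
    beqM (evFrom (zM 0) oneM Data.wordX) gX && beqM (evFrom (zM 0) oneM Data.wordY) gY) = true := by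
  decide +kernel

/-- The element of order three. -/
noncomputable def three : J1 := elI Data.three

theorem three_spec : okM bM = true ∧ toMat three = mat bM := by
  have h := three_ok
  simp only [Bool.and_eq_true] at h
  exact elI_spec h.1.1.1.1

theorem three_pow : three * three * three = 1 ∧ three ≠ 1 := by
  have h := three_ok
  simp only [Bool.and_eq_true, beqM_iff, Bool.not_eq_true'] at h
  obtain ⟨hb, hbm⟩ := three_spec
  constructor
  · refine toMat_inj ?_
    rw [toMat_mul, toMat_mul, hbm, ← mat_mulM hb hb, ← mat_mulM (okM_mulM _ _) hb, h.1.1.1.2, mat_oneM, toMat_one]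
  · intro e
    have hne := h.1.1.2
    rw [e, toMat_one, ← mat_oneM] at hbm
    rw [← mat_inj okM_oneM hb hbm, beqM_iff.2 rfl] at hne
    exact Bool.noConfusion hne

theorem orderOf_three : orderOf three = 3 := by
  haveI : Fact (Nat.Prime 3) := ⟨Nat.prime_three⟩
  exact orderOf_eq_prime (by rw [pow_succ, sq]; exact three_pow.1) three_pow.2

theorem exists_conj_three {y : J1} (hy : orderOf y = 3) : ∃ g : J1, g * y * g⁻¹ = three := by
  haveI : Fact (Nat.Prime 3) := ⟨Nat.prime_three⟩
  have hf : (Nat.card J1).factorization 3 = 1 := by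
    rw [card_J1, show (175560 : ℕ) = 3 ^ 1 * 58520 by norm_num, Nat.factorization_mul (by norm_num) (by norm_num),
      Finsupp.add_apply, Nat.prime_three.factorization_pow, Nat.factorization_eq_zero_of_not_dvd (by norm_num),
      Finsupp.single_eq_same]
  let P : Sylow 3 J1 := Sylow.ofCard (Subgroup.zpowers y) (by rw [Nat.card_zpowers, hy, hf, pow_one])
  let Q : Sylow 3 J1 := Sylow.ofCard (Subgroup.zpowers three) (by rw [Nat.card_zpowers, orderOf_three, hf, pow_one])
  obtain ⟨g, hg⟩ := MulAction.exists_smul_eq J1 P Q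
  have hmem : g * y * g⁻¹ ∈ (Q : Subgroup J1) := by
    rw [← hg, Sylow.smul_def, Sylow.pointwise_smul_def]
    exact ⟨y, Subgroup.mem_zpowers y, rfl⟩
  have hmem' : g * y * g⁻¹ ∈ Subgroup.zpowers three := hmem
  rw [mem_zpowers_iff_mem_range_orderOf, orderOf_three] at hmem'
  obtain ⟨n, hn, hne⟩ := Finset.mem_image.1 hmem'
  rw [Finset.mem_range] at hn
  rcases (show n = 0 ∨ n = 1 ∨ n = 2 by omega) with rfl | rfl | rfl
  · rw [pow_zero] at hne
    rw [conj_eq_one_iff.1 hne.symm, orderOf_one] at hy
    norm_num at hy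
  · exact ⟨g, by rw [← hne, pow_one]⟩
  · have h := three_ok
    simp only [Bool.and_eq_true, beqM_iff] at h
    obtain ⟨hb, hbm⟩ := three_spec
    obtain ⟨hk, hkm⟩ := elI_spec h.1.2
    have hinv : elI Data.inverting * three = three * three * elI Data.inverting := toMat_inj (by
      rw [toMat_mul, toMat_mul, toMat_mul, hkm, hbm, ← mat_mulM hk hb, ← mat_mulM hb hb,
        ← mat_mulM (okM_mulM _ _) hk, h.2])
    refine ⟨(elI Data.inverting)⁻¹ * g, ?_⟩
    calc (elI Data.inverting)⁻¹ * g * y * ((elI Data.inverting)⁻¹ * g)⁻¹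
        = (elI Data.inverting)⁻¹ * (g * y * g⁻¹) * elI Data.inverting := by group
      _ = (elI Data.inverting)⁻¹ * (three * three * elI Data.inverting) := by rw [← hne, sq, mul_assoc]
      _ = three := by rw [← hinv, ← mul_assoc, inv_mul_cancel, one_mul]

/-- Evaluation of a word in the group. -/
def evG (x y : J1) : J1 → List Bool → J1
  | A, [] => A
  | A, t :: w => evG x y (A * bif t then y else x) w

theorem map_evG (f : J1 ≃* J1) (x y : J1) : ∀ (w : List Bool) (A : J1), f (evG x y A w) = evG (f x) (f y) (f A) w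
  | [], A => rfl
  | t :: w, A => by
    rw [evG, evG, map_evG f x y w, map_mul]
    cases t <;> rfl

theorem toMat_evG {x : J1} {zm : M7} (hzm : okM zm = true) (hx : toMat x = mat zm) :
    ∀ (w : List Bool) (A : J1) (Am : M7), okM Am = true → toMat A = mat Am →
      okM (evFrom zm Am w) = true ∧ toMat (evG x three A w) = mat (evFrom zm Am w)
  | [], A, Am, hA, h => ⟨hA, h⟩
  | t :: w, A, Am, hA, h => by
    rw [evG, evFrom]
    refine toMat_evG hzm hx w _ _ (okM_mulM _ _) ?_
    cases t
    · rw [toMat_mul, h, show letter zm false = zm from rfl, mat_mulM hA hzm]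
      exact congrArg _ hx
    · rw [toMat_mul, h, show letter zm true = bM from rfl, mat_mulM hA three_spec.1]
      exact congrArg _ three_spec.2

theorem vec_evRow {x : J1} {zm : M7} (hzm : okM zm = true) (hx : toMat x = mat zm) {r0 : ℕ} :
    ∀ (w : List Bool) (A : J1) (r : ℕ), okR r = true → vec r = Matrix.vecMul (vec r0) (toMat A) →
      okR (evRow zm r w) = true ∧ vec (evRow zm r w) = Matrix.vecMul (vec r0) (toMat (evG x three A w))
  | [], A, r, hr, h => ⟨hr, h⟩
  | t :: w, A, r, hr, h => by
    rw [evG, evRow]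
    refine vec_evRow hzm hx w _ _ (okR_red _) ?_
    cases t
    · rw [show letter zm false = zm from rfl, vec_rowMul hr hzm, h, Matrix.vecMul_vecMul, toMat_mul]
      exact congrArg (fun M => Matrix.vecMul _ (_ * M)) hx.symm
    · rw [show letter zm true = bM from rfl, vec_rowMul hr three_spec.1, h, Matrix.vecMul_vecMul, toMat_mul]
      exact congrArg (fun M => Matrix.vecMul _ (_ * M)) three_spec.2.symm

theorem eq_conj_of_fix {f : MulAut J1} (hb : f three = three) : ∃ c : J1, f = MulAut.conj c := by
  have hinv : orderOf (f invol) = 2 := by rw [MulEquiv.orderOf_eq]; exact orderOf_invol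
  obtain ⟨g, hg⟩ := exists_conj_invol hinv
  obtain ⟨j, hj, hjm⟩ := exists_index_conj g
  have hz : toMat (f invol) = mat (zM j) := by
    have hz' : f invol = g⁻¹ * (g * f invol * g⁻¹) * g := by group
    rw [hg] at hz'
    rw [hz', hjm]
  have hzero : toMat invol = mat (zM 0) := invol_spec.1
  have h0 : okM (zM 0) = true := okM_zM (by norm_num)
  have hr := rels_ok
  simp only [Bool.and_eq_true, List.all_eq_true, Bool.not_eq_true', beqM_iff] at hr
  obtain ⟨⟨⟨hpos, hneg⟩, hX⟩, hY⟩ := hr
  have hgen0 : evG invol three 1 Data.wordX = gG 0 := toMat_inj (by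
    rw [(toMat_evG h0 hzero _ 1 oneM okM_oneM (by rw [toMat_one, mat_oneM])).2, hX, toMat_gG]
    rfl)
  have hgen1 : evG invol three 1 Data.wordY = gG 1 := toMat_inj (by
    rw [(toMat_evG h0 hzero _ 1 oneM okM_oneM (by rw [toMat_one, mat_oneM])).2, hY, toMat_gG]
    rfl)
  have h := chk cand_ok hj
  simp only [candOk, Bool.or_eq_true, Bool.and_eq_true, Nat.beq_eq, Nat.blt_eq, Bool.not_eq_true'] at h
  rcases h with (⟨⟨-, ha⟩, hc⟩ | ⟨⟨⟨-, ha⟩, hq⟩, hne⟩) | ⟨⟨-, ha⟩, he⟩
  · set a := at2 0 Data.verdicts j % 65536 / 8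
    have hmem : Data.centThree.getD a 0 ∈ Data.centThree := by
      rw [List.getD_eq_getElem _ _ ha]; exact List.getElem_mem _
    have hct := List.all_eq_true.1 centThree_ok _ hmem
    simp only [Bool.and_eq_true, beqM_iff] at hct
    obtain ⟨hck, hcm⟩ := elI_spec hct.1
    set c := elI (Data.centThree.getD a 0)
    have hcb : c * three = three * c := toMat_inj (by
      rw [toMat_mul, toMat_mul, hcm, three_spec.2, ← mat_mulM hck three_spec.1, ← mat_mulM three_spec.1 hck, hct.2])
    have hcz : f invol * c = c * invol := toMat_inj (by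
      rw [toMat_mul, toMat_mul, hz, hcm, hzero, ← mat_mulM (okM_zM hj) hck, ← mat_mulM hck h0, beqM_iff.1 hc])
    have e1 : MulAut.conj c invol = f invol := by
      rw [MulAut.conj_apply, ← hcz, mul_inv_cancel_right]
    have e2 : MulAut.conj c three = f three := by
      rw [MulAut.conj_apply, hcb, mul_inv_cancel_right, hb]
    have key : ∀ w, f (evG invol three 1 w) = MulAut.conj c (evG invol three 1 w) := fun w => by
      rw [map_evG, map_evG, e1, e2, map_one, map_one]
    have h3 : Subgroup.closure ({gG 0, gG 1} : Set J1) = ⊤ := by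
      apply Subgroup.map_injective J1.subtype_injective
      rw [MonoidHom.map_closure, ← MonoidHom.range_eq_map, Subgroup.range_subtype, Set.image_pair]
      rfl
    refine ⟨c, MulEquiv.ext fun x => DFunLike.congr_fun
      (MonoidHom.eq_of_eqOn_dense h3 (f := f.toMonoidHom) (g := (MulAut.conj c).toMonoidHom) ?_) x⟩
    rintro x (rfl | rfl)
    · show f _ = MulAut.conj c _
      rw [← hgen0]
      exact key _
    · show f _ = MulAut.conj c _
      rw [← hgen1]
      exact key _
  · exfalso
    set w := Data.posRels.getD (at2 0 Data.verdicts j % 65536 / 8) []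
    set r0 := unitRow (at2 0 Data.verdicts j % 8)
    have hw : w ∈ Data.posRels := by
      simp only [w]
      rw [List.getD_eq_getElem _ _ ha]; exact List.getElem_mem _
    have he1 : evG invol three 1 w = 1 := toMat_inj (by
      rw [(toMat_evG h0 hzero _ 1 oneM okM_oneM (by rw [toMat_one, mat_oneM])).2, hpos w hw, mat_oneM, toMat_one])
    have he2 : evG (f invol) three 1 w = 1 := by
      have := congrArg f he1
      rwa [map_evG, hb, map_one] at this
    obtain ⟨ho, hv⟩ := vec_evRow (okM_zM hj) hz w 1 r0 hq (by rw [toMat_one, Matrix.vecMul_one])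
    rw [he2, toMat_one, Matrix.vecMul_one] at hv
    rw [vec_inj ho hq hv, Nat.beq_refl] at hne
    exact Bool.noConfusion hne
  · exfalso
    set w := Data.negRels.getD (at2 0 Data.verdicts j % 65536 / 8) []
    have hw : w ∈ Data.negRels := by
      simp only [w]
      rw [List.getD_eq_getElem _ _ ha]; exact List.getElem_mem _
    have he2 : evG (f invol) three 1 w = 1 := toMat_inj (by
      rw [(toMat_evG (okM_zM hj) hz _ 1 oneM okM_oneM (by rw [toMat_one, mat_oneM])).2, beqM_iff.1 he, mat_oneM,
        toMat_one])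
    have he1 : evG invol three 1 w = 1 := by
      apply f.injective
      rw [map_evG, hb, map_one, he2]
    obtain ⟨ho, hm⟩ := toMat_evG h0 hzero w 1 oneM okM_oneM (by rw [toMat_one, mat_oneM])
    rw [he1, toMat_one, ← mat_oneM] at hm
    have := hneg w hw
    rw [← mat_inj okM_oneM ho hm, beqM_iff.2 rfl] at this
    exact Bool.noConfusion this

theorem mem_inn (f : MulAut J1) : f ∈ Cfsg.Inn J1 := by
  obtain ⟨g, hg⟩ := exists_conj_three (y := f three) (by rw [MulEquiv.orderOf_eq]; exact orderOf_three)
  obtain ⟨c, hc⟩ := eq_conj_of_fix (f := MulAut.conj g * f) hg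
  refine ⟨g⁻¹ * c, ?_⟩
  rw [map_mul, ← hc, map_inv, inv_mul_cancel_left]

theorem card_out_J1 : Nat.card (Cfsg.Out J1) = 1 := by
  rw [Nat.card_eq_one_iff_unique]
  refine ⟨⟨fun x y => ?_⟩, ⟨1⟩⟩
  obtain ⟨f, rfl⟩ := QuotientGroup.mk_surjective x
  obtain ⟨f', rfl⟩ := QuotientGroup.mk_surjective y
  exact QuotientGroup.eq.2 (mem_inn _)

end CfsgLib.JankoOne
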