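import Mathlib

/-!
Matrices of size seven over the integers modulo 11 with rows packed in natural numbers
(twelve bits for each entry), for fast evaluation by the kernel.
-/

set_option autoImplicit false

namespace CfsgLib.JankoOne

/-- A packed matrix. -/
structure M7 where
  r0 : ℕ
  r1 : ℕ
  r2 : ℕ
  r3 : ℕ
  r4 : ℕ
  r5 : ℕ
  r6 : ℕ

def f0 (r : ℕ) : ℕ := r % 4096
def f1 (r : ℕ) : ℕ := r / 4096 % 4096
def f2 (r : ℕ) : ℕ := r / 16777216 % 4096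
def f3 (r : ℕ) : ℕ := r / 68719476736 % 4096
def f4 (r : ℕ) : ℕ := r / 281474976710656 % 4096
def f5 (r : ℕ) : ℕ := r / 1152921504606846976 % 4096
def f6 (r : ℕ) : ℕ := r / 4722366482869645213696 % 4096

/-- Pack seven entries. -/
def enc (a0 a1 a2 a3 a4 a5 a6 : ℕ) : ℕ :=
  a0 + 4096 * a1 + 16777216 * a2 + 68719476736 * a3 + 281474976710656 * a4 +
    1152921504606846976 * a5 + 4722366482869645213696 * a6

theorem fields {a0 a1 a2 a3 a4 a5 a6 : ℕ} (h0 : a0 < 4096) (h1 : a1 < 4096) (h2 : a2 < 4096)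
    (h3 : a3 < 4096) (h4 : a4 < 4096) (h5 : a5 < 4096) (h6 : a6 < 4096) :
    f0 (enc a0 a1 a2 a3 a4 a5 a6) = a0 ∧ f1 (enc a0 a1 a2 a3 a4 a5 a6) = a1 ∧
      f2 (enc a0 a1 a2 a3 a4 a5 a6) = a2 ∧ f3 (enc a0 a1 a2 a3 a4 a5 a6) = a3 ∧
      f4 (enc a0 a1 a2 a3 a4 a5 a6) = a4 ∧ f5 (enc a0 a1 a2 a3 a4 a5 a6) = a5 ∧
      f6 (enc a0 a1 a2 a3 a4 a5 a6) = a6 := by
  simp only [f0, f1, f2, f3, f4, f5, f6, enc]
  refine ⟨?_, ?_, ?_, ?_, ?_, ?_, ?_⟩ <;> omega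

/-- Reduce the entries modulo 11. -/
def red (s : ℕ) : ℕ :=
  enc (f0 s % 11) (f1 s % 11) (f2 s % 11) (f3 s % 11) (f4 s % 11) (f5 s % 11) (f6 s % 11)

/-- A reduced packed row. -/
def okR (r : ℕ) : Bool :=
  Nat.beq r (enc (f0 r) (f1 r) (f2 r) (f3 r) (f4 r) (f5 r) (f6 r)) && Nat.blt (f0 r) 11 &&
    Nat.blt (f1 r) 11 && Nat.blt (f2 r) 11 && Nat.blt (f3 r) 11 && Nat.blt (f4 r) 11 &&
    Nat.blt (f5 r) 11 && Nat.blt (f6 r) 11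

theorem okR_iff {r : ℕ} : okR r = true ↔ r = enc (f0 r) (f1 r) (f2 r) (f3 r) (f4 r) (f5 r) (f6 r) ∧
    f0 r < 11 ∧ f1 r < 11 ∧ f2 r < 11 ∧ f3 r < 11 ∧ f4 r < 11 ∧ f5 r < 11 ∧ f6 r < 11 := by
  simp only [okR, Bool.and_eq_true, Nat.beq_eq, Nat.blt_eq, and_assoc]

theorem okR_red (s : ℕ) : okR (red s) = true := by
  have h : ∀ x : ℕ, x % 11 < 4096 := fun x => by omega
  obtain ⟨e0, e1, e2, e3, e4, e5, e6⟩ := fields (h (f0 s)) (h (f1 s)) (h (f2 s)) (h (f3 s)) (h (f4 s))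
    (h (f5 s)) (h (f6 s))
  rw [okR_iff]
  unfold red
  rw [e0, e1, e2, e3, e4, e5, e6]
  refine ⟨rfl, ?_, ?_, ?_, ?_, ?_, ?_, ?_⟩ <;> omega

/-- A row as a vector. -/
def vec (r : ℕ) : Fin 7 → ZMod 11 :=
  ![(f0 r : ZMod 11), f1 r, f2 r, f3 r, f4 r, f5 r, f6 r]

theorem vec_red (s : ℕ) : vec (red s) = vec s := by
  have h : ∀ x : ℕ, x % 11 < 4096 := fun x => by omega
  obtain ⟨e0, e1, e2, e3, e4, e5, e6⟩ := fields (h (f0 s)) (h (f1 s)) (h (f2 s)) (h (f3 s)) (h (f4 s))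
    (h (f5 s)) (h (f6 s))
  simp only [vec, red, e0, e1, e2, e3, e4, e5, e6, ZMod.natCast_mod]

theorem vec_inj {r s : ℕ} (hr : okR r = true) (hs : okR s = true) (h : vec r = vec s) : r = s := by
  rw [okR_iff] at hr hs
  obtain ⟨er, a0, a1, a2, a3, a4, a5, a6⟩ := hr
  obtain ⟨es, b0, b1, b2, b3, b4, b5, b6⟩ := hs
  have key : ∀ {a b : ℕ}, a < 11 → b < 11 → (a : ZMod 11) = (b : ZMod 11) → a = b := fun ha hb he => by
    have := congrArg ZMod.val he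
    rwa [ZMod.val_natCast_of_lt ha, ZMod.val_natCast_of_lt hb] at this
  rw [er, es, key a0 b0 (congrFun h 0), key a1 b1 (congrFun h 1), key a2 b2 (congrFun h 2),
    key a3 b3 (congrFun h 3), key a4 b4 (congrFun h 4), key a5 b5 (congrFun h 5), key a6 b6 (congrFun h 6)]

/-- Scale a row. -/
def smulR (c r : ℕ) : ℕ := red (c * r)

theorem vec_smulR {c r : ℕ} (hc : c < 11) (hr : okR r = true) :
    vec (smulR c r) = (c : ZMod 11) • vec r := by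
  rw [okR_iff] at hr
  obtain ⟨er, a0, a1, a2, a3, a4, a5, a6⟩ := hr
  have hb : ∀ {a : ℕ}, a < 11 → c * a < 4096 := fun ha => by
    have := Nat.mul_le_mul (Nat.le_of_lt hc) (Nat.le_of_lt ha)
    omega
  obtain ⟨e0, e1, e2, e3, e4, e5, e6⟩ :=
    fields (hb a0) (hb a1) (hb a2) (hb a3) (hb a4) (hb a5) (hb a6)
  have he : c * r = enc (c * f0 r) (c * f1 r) (c * f2 r) (c * f3 r) (c * f4 r) (c * f5 r) (c * f6 r) := by
    conv_lhs => rw [er]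
    simp only [enc]; ring
  rw [smulR, vec_red, he]
  simp only [vec, e0, e1, e2, e3, e4, e5, e6, Nat.cast_mul, Matrix.smul_cons, smul_eq_mul, Matrix.smul_empty]

/-- A row times a matrix. -/
def rowMul (r : ℕ) (B : M7) : ℕ :=
  red (f0 r * B.r0 + f1 r * B.r1 + f2 r * B.r2 + f3 r * B.r3 + f4 r * B.r4 + f5 r * B.r5 + f6 r * B.r6)

/-- The product. -/
def mulM (A B : M7) : M7 :=
  ⟨rowMul A.r0 B, rowMul A.r1 B, rowMul A.r2 B, rowMul A.r3 B, rowMul A.r4 B, rowMul A.r5 B, rowMul A.r6 B⟩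

/-- The identity. -/
def oneM : M7 := ⟨1, 4096, 16777216, 68719476736, 281474976710656, 1152921504606846976, 4722366482869645213696⟩

/-- Equality test. -/
def beqM (A B : M7) : Bool :=
  Nat.beq A.r0 B.r0 && Nat.beq A.r1 B.r1 && Nat.beq A.r2 B.r2 && Nat.beq A.r3 B.r3 && Nat.beq A.r4 B.r4 &&
    Nat.beq A.r5 B.r5 && Nat.beq A.r6 B.r6

theorem beqM_iff {A B : M7} : beqM A B = true ↔ A = B := by
  constructor
  · intro h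
    cases A; cases B
    simp only [beqM, Bool.and_eq_true, Nat.beq_eq] at h
    simp [h]
  · rintro rfl
    simp [beqM]

/-- All rows reduced. -/
def okM (A : M7) : Bool :=
  okR A.r0 && okR A.r1 && okR A.r2 && okR A.r3 && okR A.r4 && okR A.r5 && okR A.r6

theorem okM_mulM (A B : M7) : okM (mulM A B) = true := by
  simp [okM, mulM, rowMul, okR_red]

theorem okM_oneM : okM oneM = true := by decide +kernel

/-- The matrix. -/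
def mat (A : M7) : Matrix (Fin 7) (Fin 7) (ZMod 11) :=
  Matrix.of ![vec A.r0, vec A.r1, vec A.r2, vec A.r3, vec A.r4, vec A.r5, vec A.r6]

theorem mat_oneM : mat oneM = 1 := by decide +kernel

theorem mat_inj {A B : M7} (hA : okM A = true) (hB : okM B = true) (h : mat A = mat B) : A = B := by
  cases A; cases B
  simp only [okM, Bool.and_eq_true] at hA hB
  obtain ⟨⟨⟨⟨⟨⟨a0, a1⟩, a2⟩, a3⟩, a4⟩, a5⟩, a6⟩ := hA
  obtain ⟨⟨⟨⟨⟨⟨b0, b1⟩, b2⟩, b3⟩, b4⟩, b5⟩, b6⟩ := hB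
  simp only [M7.mk.injEq]
  exact ⟨vec_inj a0 b0 (congrFun h 0), vec_inj a1 b1 (congrFun h 1), vec_inj a2 b2 (congrFun h 2),
    vec_inj a3 b3 (congrFun h 3), vec_inj a4 b4 (congrFun h 4), vec_inj a5 b5 (congrFun h 5),
    vec_inj a6 b6 (congrFun h 6)⟩

theorem vec_rowMul {r : ℕ} {B : M7} (hr : okR r = true) (hB : okM B = true) :
    vec (rowMul r B) = Matrix.vecMul (vec r) (mat B) := by
  rw [okR_iff] at hr
  obtain ⟨-, c0, c1, c2, c3, c4, c5, c6⟩ := hr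
  simp only [okM, Bool.and_eq_true, okR_iff] at hB
  obtain ⟨⟨⟨⟨⟨⟨⟨e0, p0⟩, ⟨e1, p1⟩⟩, ⟨e2, p2⟩⟩, ⟨e3, p3⟩⟩, ⟨e4, p4⟩⟩, ⟨e5, p5⟩⟩, ⟨e6, p6⟩⟩ := hB
  have hb : ∀ {a0 a1 a2 a3 a4 a5 a6 : ℕ}, a0 < 11 → a1 < 11 → a2 < 11 → a3 < 11 → a4 < 11 → a5 < 11 →
      a6 < 11 → f0 r * a0 + f1 r * a1 + f2 r * a2 + f3 r * a3 + f4 r * a4 + f5 r * a5 + f6 r * a6 < 4096 := by
    intro a0 a1 a2 a3 a4 a5 a6 h0 h1 h2 h3 h4 h5 h6
    have := Nat.mul_le_mul (Nat.le_of_lt c0) (Nat.le_of_lt h0)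
    have := Nat.mul_le_mul (Nat.le_of_lt c1) (Nat.le_of_lt h1)
    have := Nat.mul_le_mul (Nat.le_of_lt c2) (Nat.le_of_lt h2)
    have := Nat.mul_le_mul (Nat.le_of_lt c3) (Nat.le_of_lt h3)
    have := Nat.mul_le_mul (Nat.le_of_lt c4) (Nat.le_of_lt h4)
    have := Nat.mul_le_mul (Nat.le_of_lt c5) (Nat.le_of_lt h5)
    have := Nat.mul_le_mul (Nat.le_of_lt c6) (Nat.le_of_lt h6)
    omega
  obtain ⟨g0, g1, g2, g3, g4, g5, g6⟩ :=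
    fields (hb p0.1 p1.1 p2.1 p3.1 p4.1 p5.1 p6.1)
      (hb p0.2.1 p1.2.1 p2.2.1 p3.2.1 p4.2.1 p5.2.1 p6.2.1)
      (hb p0.2.2.1 p1.2.2.1 p2.2.2.1 p3.2.2.1 p4.2.2.1 p5.2.2.1 p6.2.2.1)
      (hb p0.2.2.2.1 p1.2.2.2.1 p2.2.2.2.1 p3.2.2.2.1 p4.2.2.2.1 p5.2.2.2.1 p6.2.2.2.1)
      (hb p0.2.2.2.2.1 p1.2.2.2.2.1 p2.2.2.2.2.1 p3.2.2.2.2.1 p4.2.2.2.2.1 p5.2.2.2.2.1 p6.2.2.2.2.1)
      (hb p0.2.2.2.2.2.1 p1.2.2.2.2.2.1 p2.2.2.2.2.2.1 p3.2.2.2.2.2.1 p4.2.2.2.2.2.1 p5.2.2.2.2.2.1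
        p6.2.2.2.2.2.1)
      (hb p0.2.2.2.2.2.2 p1.2.2.2.2.2.2 p2.2.2.2.2.2.2 p3.2.2.2.2.2.2 p4.2.2.2.2.2.2 p5.2.2.2.2.2.2
        p6.2.2.2.2.2.2)
  have hsum : f0 r * B.r0 + f1 r * B.r1 + f2 r * B.r2 + f3 r * B.r3 + f4 r * B.r4 + f5 r * B.r5 + f6 r * B.r6 =
      enc (f0 r * f0 B.r0 + f1 r * f0 B.r1 + f2 r * f0 B.r2 + f3 r * f0 B.r3 + f4 r * f0 B.r4 + f5 r * f0 B.r5 + f6 r * f0 B.r6)
        (f0 r * f1 B.r0 + f1 r * f1 B.r1 + f2 r * f1 B.r2 + f3 r * f1 B.r3 + f4 r * f1 B.r4 + f5 r * f1 B.r5 + f6 r * f1 B.r6)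
        (f0 r * f2 B.r0 + f1 r * f2 B.r1 + f2 r * f2 B.r2 + f3 r * f2 B.r3 + f4 r * f2 B.r4 + f5 r * f2 B.r5 + f6 r * f2 B.r6)
        (f0 r * f3 B.r0 + f1 r * f3 B.r1 + f2 r * f3 B.r2 + f3 r * f3 B.r3 + f4 r * f3 B.r4 + f5 r * f3 B.r5 + f6 r * f3 B.r6)
        (f0 r * f4 B.r0 + f1 r * f4 B.r1 + f2 r * f4 B.r2 + f3 r * f4 B.r3 + f4 r * f4 B.r4 + f5 r * f4 B.r5 + f6 r * f4 B.r6)
        (f0 r * f5 B.r0 + f1 r * f5 B.r1 + f2 r * f5 B.r2 + f3 r * f5 B.r3 + f4 r * f5 B.r4 + f5 r * f5 B.r5 + f6 r * f5 B.r6)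
        (f0 r * f6 B.r0 + f1 r * f6 B.r1 + f2 r * f6 B.r2 + f3 r * f6 B.r3 + f4 r * f6 B.r4 + f5 r * f6 B.r5 + f6 r * f6 B.r6) := by
    conv_lhs => rw [e0, e1, e2, e3, e4, e5, e6]
    simp only [enc]; ring
  rw [rowMul, vec_red, hsum]
  funext j
  rw [Matrix.vecMul, dotProduct, Fin.sum_univ_seven]
  simp only [vec, g0, g1, g2, g3, g4, g5, g6]
  fin_cases j <;> simp [mat, vec, Nat.cast_add, Nat.cast_mul]

theorem mat_mulM {A B : M7} (hA : okM A = true) (hB : okM B = true) :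
    mat (mulM A B) = mat A * mat B := by
  simp only [okM, Bool.and_eq_true] at hA
  obtain ⟨⟨⟨⟨⟨⟨a0, a1⟩, a2⟩, a3⟩, a4⟩, a5⟩, a6⟩ := hA
  funext i
  rw [Matrix.mul_apply_eq_vecMul]
  fin_cases i
  · exact vec_rowMul a0 hB
  · exact vec_rowMul a1 hB
  · exact vec_rowMul a2 hB
  · exact vec_rowMul a3 hB
  · exact vec_rowMul a4 hB
  · exact vec_rowMul a5 hB
  · exact vec_rowMul a6 hB

end CfsgLib.JankoOne
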